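import Cfsg.Agent.H31.BR.PolInst
import Cfsg.Agent.H410.BR.OmReg

/-!
# S4891: the data of the rows of the orthogonal groups

`polInst_om` : helper31's `PolInst` for `H = Omega F Q`, `G` the isometry group, `S = POmega F Q`, the automorphisms
(`aut`) being a hypothesis.
-/

set_option autoImplicit false

namespace Cfsg.Agent.H410.BR

open Module QuadraticMap Cfsg Cfsg.Agent.H2.Pol Cfsg.Agent.H674.BR Cfsg.Agent.H646.BR
open Cfsg.Agent.LieClassical Cfsg.Agent.LieClassical.OrthCore Cfsg.Agent.LieClassical.OrthForms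
  Cfsg.Agent.LieClassical.OrthTrans Cfsg.Agent.LieClassical.OrthFinite

/-- squares of isometries -/
theorem sq_mem_E {F V : Type*} [Field F] [AddCommGroup V] [Module F V] [FiniteDimensional F V]
    {Q : QuadraticForm F V} (hG : Good Q) {g : V ≃ₗ[F] V} (hg : g ∈ O Q) : g * g ∈ E Q := by
  rw [O_eq_closure hG.nondeg] at hg
  induction hg using Subgroup.closure_induction with
  | mem x hx =>
    rcases hx with ⟨u, hu, rfl⟩ | hx
    · rw [refl_mul_self]
      exact (E Q).one_mem
    · exact (E Q).mul_mem (Subgroup.subset_closure hx) (Subgroup.subset_closure hx)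
  | one => exact (E Q).mul_mem (E Q).one_mem (E Q).one_mem
  | mul x y hx hy ihx ihy =>
    rw [← O_eq_closure hG.nondeg] at hx hy
    have h1 : x * y * (x * y) = x * x * (x⁻¹ * y * x⁻¹⁻¹ * y⁻¹) * (y * y) := by group
    rw [h1]
    refine (E Q).mul_mem ((E Q).mul_mem ihx ?_) ihy
    rw [← hG.commutator_eq_E]
    exact Subgroup.commutator_mem_commutator ((O Q).inv_mem hx) hy
  | inv x _ ihx =>
    have h1 : x⁻¹ * x⁻¹ = (x * x)⁻¹ := by rw [mul_inv_rev]
    rw [h1]
    exact (E Q).inv_mem ihx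

/-- a finite group all of whose squares are trivial has order prime to an odd prime -/
theorem not_dvd_of_sq {K : Type*} [Group K] [Finite K] {p : ℕ} [hp : Fact p.Prime] (h2 : p ≠ 2)
    (h : ∀ x : K, x * x = 1) : ¬ p ∣ Nat.card K := by
  intro hd
  obtain ⟨x, hx⟩ := exists_prime_orderOf_dvd_card' p hd
  have h1 : x ^ 2 = 1 := by rw [pow_two, h]
  have h3 := orderOf_dvd_of_pow_eq_one h1
  rw [hx] at h3
  exact h2 ((Nat.prime_dvd_prime_iff_eq hp.out Nat.prime_two).1 h3)

section Inst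

variable {p : ℕ} [hp : Fact p.Prime] {F : Type} [Field F] [Fintype F] {ι : Type} [Fintype ι] [DecidableEq ι]
  {Q : QuadraticForm F (ι → F)} {w ε K : ℕ}

omit [Fintype F] in
theorem iso_mem_O (g : Cfsg.isometryGroup F ⇑Q) : isometryHom Q g ∈ O Q := by
  rw [← isometryHom_range]
  exact ⟨g, rfl⟩

omit [Fintype F] in
theorem sq_mem_omega (hG : Good Q) (g : Cfsg.isometryGroup F ⇑Q) : g * g ∈ Cfsg.Omega F ⇑Q := by
  have h1 := sq_mem_E hG (iso_mem_O g)
  obtain ⟨g', hg'⟩ := exists_om hG h1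
  have h2 : isometryHom Q (g' : Cfsg.isometryGroup F ⇑Q) = isometryHom Q (g * g) := by
    rw [map_mul]
    exact hg'
  rw [← isometryHom_injective Q h2]
  exact g'.2

theorem index_omega (hG : Good Q) (h2 : p ≠ 2) : ¬ p ∣ (Cfsg.Omega F ⇑Q).index := by
  have : Finite (Cfsg.isometryGroup F ⇑Q) := inferInstance
  refine not_dvd_of_sq h2 fun x => ?_
  induction x using QuotientGroup.induction_on with
  | _ g =>
    show (QuotientGroup.mk (g * g) : Cfsg.isometryGroup F ⇑Q ⧸ Cfsg.Omega F ⇑Q) = 1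
    rw [QuotientGroup.eq_one_iff]
    exact sq_mem_omega hG g

omit [Fintype F] in
theorem center_sq (hG : Good Q) {z : Cfsg.Omega F ⇑Q} (hz : z ∈ Subgroup.center (Cfsg.Omega F ⇑Q)) : z * z = 1 := by
  obtain ⟨c, hc⟩ := scalar_of_center hG hz
  obtain ⟨e, f, hef⟩ := hG.exists_hyp
  have h1 : polar Q (omRho Q z e) (omRho Q z f) = polar Q e f :=
    polar_map (E_le_O (omRho_mem_E hG z)) e f
  rw [hc, hc, polar_smul_left, polar_smul_right, hef.pair, smul_eq_mul, smul_eq_mul, mul_one] at h1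
  apply omRho_injective Q
  rw [map_mul, map_one]
  ext1 v
  show omRho Q z (omRho Q z v) = v
  rw [hc, hc, smul_smul, h1, one_smul]

theorem card_center (hG : Good Q) (h2 : p ≠ 2) :
    ¬ p ∣ Nat.card (Subgroup.center (Cfsg.Omega F ⇑Q)) := by
  have : Finite (Cfsg.isometryGroup F ⇑Q) := inferInstance
  refine not_dvd_of_sq h2 fun x => Subtype.ext ?_
  exact center_sq hG x.2

omit [Fintype F] in
theorem iso_pres (Q : QuadraticForm F (ι → F)) : Pres (quadPol Q) (isometryHom Q) := fun g =>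
  ⟨fun x y => polar_map (iso_mem_O g) x y, fun x hx => (iso_acts Q).sing g x hx⟩

omit [Fintype F] in
/-- Witt's extension for linear automorphisms of totally singular subspaces -/
theorem iso_wittTS (hQ : Nondeg Q) : WittTS (quadPol Q) (isometryHom Q) := by
  intro T hT g
  obtain ⟨a, ha, hag⟩ := Cfsg.Agent.ClassicalGeometry.WittQuad.extend Q (nondegenerate_of_nondeg hQ) T T g
    (fun x => by rw [hT.1 _ (g x).2, hT.1 _ x.2])
  have h1 : a ∈ (isometryHom Q).range := by
    rw [isometryHom_range]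
    exact ha
  obtain ⟨b, rfl⟩ := h1
  exact ⟨b, hag⟩

/-- **the data of the orthogonal rows** -/
theorem polInst_om (h2 : p ≠ 2) (h : Typ Q w ε) (hG : Good Q) (hK : K ≤ w) (hd : ε ≠ 0 ∨ 2 * K < w)
    (aut : ∀ a : MulAut (Cfsg.POmega F ⇑Q), (∃ k : ℕ, orderOf a = p ^ k) → ∃ M : (ι → F) ≃+ (ι → F),
      SemiAct (quadPol Q) M ∧ Induces (omRho Q) (QuotientGroup.mk' (Subgroup.center (Cfsg.Omega F ⇑Q))) M a) :
    H31.BR.PolInst p (quadPol Q) (isometryHom Q) (Cfsg.Omega F ⇑Q).subtype (omRho Q)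
      (QuotientGroup.mk' (Subgroup.center (Cfsg.Omega F ⇑Q))) w ε K where
  pres := iso_pres Q
  comp _ := rfl
  model := om_model hG
  witt := iso_wittTS h.nondeg
  inj := Subgroup.subtype_injective _
  idx := by
    rw [Subgroup.range_subtype]
    exact index_omega hG h2
  ker_le := (QuotientGroup.ker_mk' _).le
  ker_card := by
    rw [QuotientGroup.ker_mk']
    exact card_center hG h2
  La x y y' := polar_add_right _ _ _ _
  Ls a x y := by
    show polar Q x (a • y) = a * polar Q x y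
    rw [polar_smul_right, smul_eq_mul]
  card := fun k hk => h.card_X hk
  K_le := hK
  reg := h.reg
  pair j _ hj U U2 W W2 hty := by
    rw [H623.BR.typ, H623.BR.typ, Prod.mk.injEq] at hty
    obtain ⟨g, hg1, hg2⟩ := om_pair_of_lt' h hG (k := j) (l := j) (hd.imp_right fun h => by omega) U W U2 W2 hty.1 hty.2
    exact ⟨g, congrArg Subtype.val hg1, congrArg Subtype.val hg2⟩
  aut := aut

end Inst

end Cfsg.Agent.H410.BR
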