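import Cfsg.Agent.H410.BR.OmInst
import Cfsg.Agent.H987.BR.OmAut
import Cfsg.Agent.H484.RatB0.RowsO
import Cfsg.Agent.H583.BR.PslY
import Cfsg.Agent.S0294
import Cfsg.Agent.H31.BR.PolRow

/-!
# S4891: the row of the orthogonal groups of minus type
-/

set_option autoImplicit false

namespace Cfsg.Agent.H410.BR

open Module QuadraticMap Cfsg Cfsg.Agent.H2.Pol Cfsg.Agent.H674.BR Cfsg.Agent.H145.BR
open Cfsg.Agent.LieClassical Cfsg.Agent.LieClassical.OrthCore Cfsg.Agent.LieClassical.OrthForms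
  Cfsg.Agent.LieClassical.OrthTrans Cfsg.Agent.LieClassical.OrthFinite

variable {p : ℕ} [hp : Fact p.Prime]

theorem not_dvd_card {F : Type} [Field F] [Fintype F] (hpF : (p : F) ≠ 0) : ¬ p ∣ Fintype.card F := by
  intro h
  obtain ⟨r, hr⟩ := CharP.exists F
  have hr' : r.Prime := CharP.char_is_prime F r
  obtain ⟨n, -, hn⟩ := FiniteField.card F r
  rw [hn] at h
  have h1 : p ∣ r := hp.out.dvd_of_dvd_pow h
  have h2 : p = r := (Nat.prime_dvd_prime_iff_eq hp.out hr').1 h1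
  subst h2
  exact hpF (CharP.cast_eq_zero F p)

/-- the order of `q` modulo `p` -/
theorem two_le_order {q : ℕ} (h : ¬ p ∣ q) (h1 : ¬ p ∣ q - 1) (hq : 1 ≤ q) : 2 ≤ orderOf (q : ZMod p) := by
  have h2 : (q : ZMod p) ≠ 0 := fun h0 => h ((ZMod.natCast_eq_zero_iff _ _).1 h0)
  have h3 : 0 < orderOf (q : ZMod p) := by
    have h4 : orderOf (Units.mk0 (q : ZMod p) h2) = orderOf (q : ZMod p) := by
      rw [← orderOf_units]
      rfl
    rw [← h4]
    exact orderOf_pos _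
  have h4 : orderOf (q : ZMod p) ≠ 1 := by
    intro h5
    rw [orderOf_eq_one_iff] at h5
    apply h1
    rw [← ZMod.natCast_eq_zero_iff, Nat.cast_sub hq, h5, Nat.cast_one, sub_self]
  omega

/-- **`PΩ⁻_{2m}(q)`, `m ≥ 4`** -/
theorem rowZ_ominus {F : Type} [Field F] [Fintype F] {m : ℕ} (hm : 4 ≤ m) {a b : F}
    (hab : ∀ z₁ z₂ : F, z₁ ^ 2 + a * z₁ * z₂ + b * z₂ ^ 2 = 0 → z₁ = 0 ∧ z₂ = 0) (hp2 : p ≠ 2) (hpF : (p : F) ≠ 0)
    (hd : p ∣ Nat.card (POmega F (quadFormMinus (m - 1) F a b))) : RowZ p (POmega F (quadFormMinus (m - 1) F a b)) := by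
  classical
  by_cases h1 : p ∣ Fintype.card F - 1
  · exact (H484.RatB0.rowInt_ominus hp2 a b hab hm h1).rowZ
  have hpq := not_dvd_card hpF
  have hd2 : 2 ≤ orderOf ((Nat.card F : ℕ) : ZMod p) := by
    rw [Nat.card_eq_fintype_card]
    exact two_le_order hpq h1 Fintype.card_pos
  have ht := typ_minus F a b hab (m := m - 1) (by omega)
  have hG : Good (minusForm (m - 1) F a b) := ht.good (by
    rw [Fintype.card_sum, Fintype.card_sum, Fintype.card_fin, Fintype.card_fin]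
    omega)
  have hS : p ∣ (Nat.card F ^ (m - 1 + 1) + 1) * ∏ i ∈ Finset.range (m - 1), (Nat.card F ^ (2 * (i + 1)) - 1) := by
    have h2 := S0294.result (F := F) rfl m hm a b hab
    have h3 : p ∣ Fintype.card F ^ (m * (m - 1)) *
        ((Fintype.card F ^ m + 1) * ∏ i ∈ Finset.range (m - 1), (Fintype.card F ^ (2 * (i + 1)) - 1)) := by
      rw [← mul_assoc, ← h2]
      exact hd.mul_left _
    rw [Nat.card_eq_fintype_card, Nat.sub_add_cancel (by omega : 1 ≤ m)]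
    rcases hp.out.dvd_mul.1 h3 with h4 | h4
    · exact absurd (hp.out.dvd_of_dvd_pow h4) hpq
    · exact h4
  have hI := polInst_om hp2 ht hG le_rfl (Or.inl (by norm_num)) (fun α _ =>
    H987.BR.om_aut hG (quadPol (minusForm (m - 1) F a b)) (fun _ _ => rfl) (fun _ => Iff.rfl)
      (omRho (minusForm (m - 1) F a b)) (fun _ _ => rfl)
      (H987.BR.gamAct_minus (by omega) hab rfl hG α))
  have hfin : Finite (Cfsg.isometryGroup F ⇑(minusForm (m - 1) F a b)) := inferInstance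
  have := hI.rowZ_minus hp2 (by rw [Nat.card_eq_fintype_card]; exact hpq) hd2 (by omega) hS
  rwa [coe_minusForm] at this

/-- **the field `ominus` of `Rows`**, integer valued version -/
theorem rowForZ_ominus (hp2 : p ≠ 2) :
    RowForZ p (fun X _ => ∃ (F : Type) (_ : Field F) (_ : Fintype F) (m : ℕ) (a b : F), (p : F) ≠ 0 ∧
      4 ≤ m ∧ (∀ z₁ z₂ : F, z₁ ^ 2 + a * z₁ * z₂ + b * z₂ ^ 2 = 0 → z₁ = 0 ∧ z₂ = 0) ∧
      Nonempty (X ≃* POmega F (quadFormMinus (m - 1) F a b))) := by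
  intro X _ _ _ _ hd hX
  obtain ⟨F, iF, iT, m, a, b, hpF, hm, hab, ⟨e⟩⟩ := hX
  refine H583.BR.RowZ.congr e (rowZ_ominus hm hab hp2 hpF ?_)
  rwa [← Nat.card_congr e.toEquiv]

/-- **the field `ominus` of `Rows`** -/
theorem ominus (hp2 : p ≠ 2) :
    RowForT p (fun X _ => ∃ (F : Type) (_ : Field F) (_ : Fintype F) (m : ℕ) (a b : F), (p : F) ≠ 0 ∧
      4 ≤ m ∧ (∀ z₁ z₂ : F, z₁ ^ 2 + a * z₁ * z₂ + b * z₂ ^ 2 = 0 → z₁ = 0 ∧ z₂ = 0) ∧
      Nonempty (X ≃* POmega F (quadFormMinus (m - 1) F a b))) :=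
  (rowForZ_ominus hp2).rowForT

end Cfsg.Agent.H410.BR
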