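import Cfsg.Agent.H410.BR.OmWitt
import Cfsg.Agent.H31.BR.CardX
import Cfsg.Agent.H31.BR.CardQ
import Cfsg.Agent.LieClassical.QuadCount
import Cfsg.Agent.LieClassical.OrthForms

/-!
# The numerical type of a quadratic form over a finite field

`Typ Q w ε` : `Q` is nondegenerate on a space of dimension `2 w + ε` (`ε ≤ 2`) with the number of singular vectors of
the form of Witt index `w`.  `Typ.card_perp`, `Typ.index` (the Witt index is at most `w`), `Typ.card_X` (the number of
totally singular subspaces), and the three standard forms `typ_plus`, `typ_odd`, `typ_minus`.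
-/

set_option autoImplicit false

namespace Cfsg.Agent.H410.BR

open Module QuadraticMap Cfsg Cfsg.Agent.H2.Pol
open Cfsg.Agent.LieClassical Cfsg.Agent.LieClassical.OrthCore Cfsg.Agent.LieClassical.OrthForms

variable {F V : Type*} [Field F] [Finite F] [AddCommGroup V] [Module F V] [FiniteDimensional F V]

/-- numerical type: Witt index `w`, dimension `2 w + ε` -/
structure Typ (Q : QuadraticForm F V) (w ε : ℕ) : Prop where
  nondeg : Nondeg Q
  pos : 1 ≤ w
  eps : ε ≤ 2
  dim : finrank F V = 2 * w + ε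
  card : Nat.card {v : V // Q v = 0} = (Nat.card F ^ w - 1) * (Nat.card F ^ (w - 1 + ε) + 1) + 1

variable {Q : QuadraticForm F V} {w ε : ℕ}

/-- the number of singular vectors orthogonal to a totally singular subspace -/
theorem Typ.card_perp (h : Typ Q w ε) {U : Submodule F V} (hU : (quadPol Q).TI U) {k : ℕ} (hk : finrank F U = k)
    (hkw : k ≤ w) : Nat.card {v : V // (quadPol Q).sing v ∧ v ∈ (quadPol Q).perp U} =
      Nat.card F ^ k * ((Nat.card F ^ (w - k) - 1) * (Nat.card F ^ (w - 1 - k + ε) + 1) + 1) := by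
  have hpos := h.pos
  show Nat.card {v : V // Q v = 0 ∧ ∀ x ∈ U, polar Q v x = 0} = _
  rcases Nat.eq_zero_or_pos k with rfl | hk0
  · have hU0 : U = ⊥ := Submodule.finrank_eq_zero.1 hk
    have h1 : Nat.card {v : V // Q v = 0 ∧ ∀ x ∈ U, polar Q v x = 0} = Nat.card {v : V // Q v = 0} := by
      refine Nat.card_congr (Equiv.subtypeEquivRight fun v => ⟨fun hv => hv.1, fun hv => ⟨hv, fun x hx => ?_⟩⟩)
      rw [hU0, Submodule.mem_bot] at hx
      rw [hx, polar_zero_right]
    rw [h1, h.card, pow_zero, one_mul, Nat.sub_zero, Nat.sub_zero]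
  have h1 := Cfsg.Agent.H31.BR.CardQ.card_sing Q U hU.1 (fun x _ hy => h.nondeg x fun y => by
    rw [polar_comm]
    exact hy y) (by omega)
  rw [h.card, h.dim, hk] at h1
  set q := Nat.card F with hq
  have hq1 : 1 < q := Finite.one_lt_card
  set Z := Nat.card {v : V // Q v = 0 ∧ ∀ x ∈ U, polar Q v x = 0}
  have hp : ∀ n, 1 ≤ q ^ n := fun n => Nat.one_le_pow _ _ (by omega)
  zify at h1 ⊢
  rw [Nat.cast_sub (hp _), Nat.cast_sub (hp _)] at h1
  rw [Nat.cast_sub (hp _)]
  push_cast at h1 ⊢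
  rcases hkw.lt_or_eq with hlt | heq
  · -- `w = k + 1 + c`
    obtain ⟨c, rfl⟩ : ∃ c, w = k + 1 + c := ⟨w - k - 1, by omega⟩
    have e1 : 2 * (k + 1 + c) + ε - k - 1 = k + 1 + c + (c + ε) := by omega
    have e2 : k + 1 + c - 1 + ε = k + (c + ε) := by omega
    have e3 : k + 1 + c - k = 1 + c := by omega
    have e4 : k + 1 + c - 1 - k + ε = c + ε := by omega
    rw [e1, e2] at h1
    rw [e3, e4]
    have h2 : (Z : ℤ) = ((q : ℤ) ^ (k + 1 + c) - 1) * ((q : ℤ) ^ (k + (c + ε)) + 1) + 1 -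
        ((q : ℤ) ^ k - 1) * (q : ℤ) ^ (k + 1 + c + (c + ε)) := by linarith
    rw [h2]
    simp only [pow_add, pow_one]
    ring
  · obtain ⟨c, rfl⟩ : ∃ c, w = c + 1 := ⟨w - 1, by omega⟩
    subst heq
    have e1 : 2 * (c + 1) + ε - (c + 1) - 1 = c + ε := by omega
    have e2 : c + 1 - 1 + ε = c + ε := by omega
    have e3 : c + 1 - (c + 1) = 0 := by omega
    rw [e1, e2] at h1
    rw [e3]
    simp only [pow_zero, sub_self, zero_mul, zero_add, mul_one]
    linarith

/-- **The Witt index.** -/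
theorem Typ.index (h : Typ Q w ε) {T : Submodule F V} (hT : (quadPol Q).TI T) : finrank F T ≤ w := by
  by_contra hcon
  push Not at hcon
  have hpos := h.pos
  have heps := h.eps
  -- a subspace of dimension `w + 1`
  have hle : T ≤ (quadPol Q).perp T := fun x hx y hy => hT.2 x hx y hy
  have h0 := Submodule.finrank_mono hle
  rw [perp_eq_pp] at h0
  have h1 := finrank_pp h.nondeg T
  rw [h.dim] at h1
  have hε : ε = 2 := by omega
  have hTw : finrank F T = w + 1 := by omega
  subst hε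
  have h2 := Cfsg.Agent.H31.BR.CardQ.card_sing Q T hT.1 (fun x _ hy => h.nondeg x fun y => by
    rw [polar_comm]
    exact hy y) (by omega)
  rw [h.card, h.dim, hTw] at h2
  have hV : Finite V := Module.finite_of_finite F
  have h3 : Nat.card T ≤ Nat.card {v : V // Q v = 0 ∧ ∀ x ∈ T, polar Q v x = 0} :=
    Nat.card_le_card_of_injective (fun v : T => (⟨v.1, hT.1 _ v.2, fun x hx => hT.2 _ v.2 x hx⟩ :
      {v : V // Q v = 0 ∧ ∀ x ∈ T, polar Q v x = 0})) (fun a b hab => by
      have h9 := congrArg Subtype.val hab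
      exact Subtype.ext h9)
  rw [Module.natCard_eq_pow_finrank (K := F), hTw] at h3
  set q := Nat.card F with hq
  have hq1 : 1 < q := Finite.one_lt_card
  set Z := Nat.card {v : V // Q v = 0 ∧ ∀ x ∈ T, polar Q v x = 0}
  have hp : ∀ n, 1 ≤ q ^ n := fun n => Nat.one_le_pow _ _ (by omega)
  obtain ⟨c, rfl⟩ : ∃ c, w = c + 1 := ⟨w - 1, by omega⟩
  have e1 : 2 * (c + 1) + 2 - (c + 1 + 1) - 1 = c + 1 := by omega
  have e2 : c + 1 - 1 + 2 = c + 2 := by omega
  rw [e1, e2] at h2
  zify at h2 h3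
  rw [Nat.cast_sub (hp _), Nat.cast_sub (hp _)] at h2
  push_cast at h2 h3
  have h4 : (1 : ℤ) < q := by exact_mod_cast hq1
  have h5 : (0 : ℤ) < (q : ℤ) ^ c := by positivity
  have h6 : (Z : ℤ) = 2 * ((q : ℤ) ^ c * q) - (q : ℤ) ^ c * q * q := by
    have e3 : (q : ℤ) ^ (c + 1) = (q : ℤ) ^ c * q := pow_succ _ _
    have e4 : (q : ℤ) ^ (c + 2) = (q : ℤ) ^ c * q * q := by rw [pow_succ, pow_succ]
    have e5 : (q : ℤ) ^ (c + 1 + 1) = (q : ℤ) ^ c * q * q := by rw [pow_succ, pow_succ]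
    rw [e3, e4] at h2
    linear_combination h2
  have h7 : (q : ℤ) ^ (c + 1 + 1) = (q : ℤ) ^ c * q * q := by rw [pow_succ, pow_succ]
  rw [h6, h7] at h3
  nlinarith [mul_pos h5 (show (0 : ℤ) < q by linarith)]

/-- **(O4)** the number of totally singular subspaces -/
theorem Typ.card_X (h : Typ Q w ε) {k : ℕ} (hk : k ≤ w) :
    Nat.card ((quadPol Q).X k) * ∏ i ∈ Finset.range k, (Nat.card F ^ (i + 1) - 1) =
      ∏ i ∈ Finset.range k, ((Nat.card F ^ (w - i) - 1) * (Nat.card F ^ (w - 1 - i + ε) + 1)) := by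
  refine Cfsg.Agent.H31.BR.CardX.card_X (Φ := quadPol Q) (fun x hx => ⟨quadPol_self Q x hx, fun a => quadPol_sing_smul Q a x hx⟩)
    (fun i => (Nat.card F ^ (w - i) - 1) * (Nat.card F ^ (w - 1 - i + ε) + 1)) w (fun i hi U => ?_) k hk
  exact h.card_perp U.2.1 U.2.2 hi.le

/-! ### The three forms -/

section Forms

variable (F)

theorem typ_plus {m : ℕ} (hm : 1 ≤ m) : Typ (plusForm m F) m 0 where
  nondeg := nondeg_plusForm m F
  pos := hm
  eps := by omega
  dim := by
    rw [finrank_fintype_fun_eq_card, Fintype.card_sum, Fintype.card_fin]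
    omega
  card := by
    classical
    have := Fintype.ofFinite F
    have h1 := QuadCount.card_plus (F := F) m 0
    rw [if_pos rfl] at h1
    rw [coe_plusForm, Nat.card_eq_fintype_card (α := F)]
    set q := Fintype.card F
    have hq1 : 1 < q := Fintype.one_lt_card
    have hp : ∀ n, 1 ≤ q ^ n := fun n => Nat.one_le_pow _ _ (by omega)
    obtain ⟨c, rfl⟩ : ∃ c, m = c + 1 := ⟨m - 1, by omega⟩
    refine Nat.eq_of_mul_eq_mul_left (show 0 < q by omega) ?_
    zify at h1 ⊢
    rw [Nat.cast_sub (hp _)]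
    push_cast at h1 ⊢
    rw [show c + 0 = c by omega]
    have e1 : (q : ℤ) ^ (c + 1) = (q : ℤ) ^ c * q := pow_succ _ _
    have e2 : (q : ℤ) ^ (2 * (c + 1)) = (q : ℤ) ^ c * (q : ℤ) ^ c * q * q := by
      rw [show 2 * (c + 1) = c + c + 1 + 1 by omega, pow_succ, pow_succ, pow_add]
    have e3 : (q : ℤ) ^ (c + 1 + 1) = (q : ℤ) ^ c * q * q := by rw [pow_succ, pow_succ]
    rw [e1, e2, e3] at h1
    rw [e1]
    linear_combination h1

theorem typ_odd (h2 : (2 : F) ≠ 0) {m : ℕ} (hm : 1 ≤ m) : Typ (oddForm m F) m 1 where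
  nondeg := nondeg_oddForm m F h2
  pos := hm
  eps := by omega
  dim := by
    rw [finrank_fintype_fun_eq_card, Fintype.card_sum, Fintype.card_sum, Fintype.card_fin, Fintype.card_unit]
    omega
  card := by
    classical
    have := Fintype.ofFinite F
    have h1 := QuadCount.card_sum (F := F) (W := Unit → F) m (fun w => w () ^ 2)
    have h3 : Nat.card {w : Unit → F // w () ^ 2 = 0} = 1 := by
      rw [Nat.card_eq_one_iff_unique]
      refine ⟨⟨fun v w => Subtype.ext ?_⟩, ⟨⟨0, by simp⟩⟩⟩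
      funext i
      rw [show v.1 i = 0 from pow_eq_zero_iff (two_ne_zero) |>.1 v.2,
        show w.1 i = 0 from pow_eq_zero_iff (two_ne_zero) |>.1 w.2]
    have h4 : Nat.card {p : (Fin m ⊕ Fin m → F) × (Unit → F) // quadFormPlus m F p.1 + p.2 () ^ 2 = 0} =
        Nat.card {v : Unit ⊕ (Fin m ⊕ Fin m) → F // oddForm m F v = 0} := by
      refine Nat.card_congr (Equiv.subtypeEquiv ((Equiv.prodComm _ _).trans
        (Equiv.sumArrowEquivProdArrow Unit (Fin m ⊕ Fin m) F).symm) fun p => ?_)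
      rw [coe_oddForm, quadFormOdd_apply, add_comm]
      rfl
    rw [h4, h3, Fintype.card_fun, Fintype.card_unit, pow_one] at h1
    rw [Nat.card_eq_fintype_card (α := F)]
    set q := Fintype.card F
    have hq1 : 1 < q := Fintype.one_lt_card
    have hp : ∀ n, 1 ≤ q ^ n := fun n => Nat.one_le_pow _ _ (by omega)
    refine Nat.eq_of_mul_eq_mul_left (show 0 < q by omega) ?_
    zify at h1 ⊢
    rw [Nat.cast_sub (hp _)]
    push_cast at h1 ⊢
    rw [show m - 1 + 1 = m by omega]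
    have e2 : (q : ℤ) ^ (2 * m) = (q : ℤ) ^ m * (q : ℤ) ^ m := by rw [two_mul, pow_add]
    have e3 : (q : ℤ) ^ (m + 1) = (q : ℤ) ^ m * q := pow_succ _ _
    rw [e2, e3] at h1
    linear_combination h1

theorem typ_minus (a b : F) (hab : ∀ z₁ z₂ : F, z₁ ^ 2 + a * z₁ * z₂ + b * z₂ ^ 2 = 0 → z₁ = 0 ∧ z₂ = 0) {m : ℕ}
    (hm : 1 ≤ m) : Typ (minusForm m F a b) m 2 where
  nondeg := nondeg_minusForm m F a b hab
  pos := hm
  eps := le_rfl
  dim := by
    rw [finrank_fintype_fun_eq_card, Fintype.card_sum, Fintype.card_sum, Fintype.card_fin, Fintype.card_fin]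
    omega
  card := by
    classical
    have := Fintype.ofFinite F
    have h1 := QuadCount.card_sum (F := F) (W := Fin 2 → F) m (fun w => w 0 ^ 2 + a * w 0 * w 1 + b * w 1 ^ 2)
    have h3 : Nat.card {w : Fin 2 → F // w 0 ^ 2 + a * w 0 * w 1 + b * w 1 ^ 2 = 0} = 1 := by
      rw [Nat.card_eq_one_iff_unique]
      refine ⟨⟨fun v w => Subtype.ext ?_⟩, ⟨⟨0, by simp⟩⟩⟩
      funext i
      have hv := hab _ _ v.2
      have hw := hab _ _ w.2
      fin_cases i
      · exact hv.1.trans hw.1.symm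
      · exact hv.2.trans hw.2.symm
    have h4 : Nat.card {p : (Fin m ⊕ Fin m → F) × (Fin 2 → F) // quadFormPlus m F p.1 +
          (p.2 0 ^ 2 + a * p.2 0 * p.2 1 + b * p.2 1 ^ 2) = 0} =
        Nat.card {v : (Fin m ⊕ Fin m) ⊕ Fin 2 → F // minusForm m F a b v = 0} := by
      refine Nat.card_congr (Equiv.subtypeEquiv
        (Equiv.sumArrowEquivProdArrow (Fin m ⊕ Fin m) (Fin 2) F).symm fun p => ?_)
      rw [coe_minusForm, quadFormMinus_apply]
      rfl
    rw [h4, h3, Fintype.card_fun, Fintype.card_fin] at h1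
    rw [Nat.card_eq_fintype_card (α := F)]
    set q := Fintype.card F
    have hq1 : 1 < q := Fintype.one_lt_card
    have hp : ∀ n, 1 ≤ q ^ n := fun n => Nat.one_le_pow _ _ (by omega)
    refine Nat.eq_of_mul_eq_mul_left (show 0 < q by omega) ?_
    zify at h1 ⊢
    rw [Nat.cast_sub (hp _)]
    push_cast at h1 ⊢
    rw [show m - 1 + 2 = m + 1 by omega]
    have e2 : (q : ℤ) ^ (2 * m) = (q : ℤ) ^ m * (q : ℤ) ^ m := by rw [two_mul, pow_add]
    have e3 : (q : ℤ) ^ (m + 1) = (q : ℤ) ^ m * q := pow_succ _ _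
    rw [e2, e3] at h1
    rw [e3]
    linear_combination h1

end Forms

end Cfsg.Agent.H410.BR
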