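import Cfsg.Agent.H674.BR.Model
import Cfsg.Agent.ClassicalGeometry.OrthAut1
import Cfsg.Agent.LieClassical.OrthFinite

/-!
# S4891: the polar structure of a quadratic form and the model of `POmega F Q`

* `quadPol Q` : the polar structure (`L y x = polar Q x y`, singular vectors `Q x = 0`);
* `omRho Q : Omega F Q →* V ≃ₗ V`, `om_model`;
* `omE`, `exists_om` : the image of `Omega F Q` is `E Q` (the group generated by the Siegel transformations).
-/

set_option autoImplicit false

namespace Cfsg.Agent.H410.BR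

open Module QuadraticMap Cfsg Cfsg.Agent.H2.Pol Cfsg.Agent.H674.BR
open Cfsg.Agent.LieClassical Cfsg.Agent.LieClassical.OrthCore Cfsg.Agent.LieClassical.OrthTrans
  Cfsg.Agent.LieClassical.OrthFinite

section Pol

variable {F V : Type*} [Field F] [AddCommGroup V] [Module F V]

/-- the polar structure of a quadratic form -/
def quadPol (Q : QuadraticForm F V) : Pol F V where
  L y := (polarBilin Q).flip y
  refl x y h := by
    have h1 : polar Q x y = 0 := h
    show polar Q y x = 0
    rw [polar_comm, h1]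
  sing x := Q x = 0
  sing_zero := QuadraticMap.map_zero Q
  sing_add x y hx hy h := by
    have h1 : polar Q x y = 0 := h
    rw [QuadraticMap.map_add Q, hx, hy, h1, add_zero, add_zero]
  sing_smul a x hx := by
    rw [QuadraticMap.map_smul, hx, smul_zero]

variable (Q : QuadraticForm F V)

theorem quadPol_sing_smul (a : F) (x : V) (hx : (quadPol Q).sing x) : (quadPol Q).sing (a • x) := by
  have h1 : Q x = 0 := hx
  show Q (a • x) = 0
  rw [QuadraticMap.map_smul, h1, smul_zero]

theorem quadPol_self (x : V) (hx : (quadPol Q).sing x) : (quadPol Q).L x x = 0 := polar_self_of_sing hx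

theorem quadPol_L (x y : V) : (quadPol Q).L y x = polar Q x y := rfl

theorem quadPol_sing (x : V) : (quadPol Q).sing x ↔ Q x = 0 := Iff.rfl

theorem quadPol_TI (U : Submodule F V) :
    (quadPol Q).TI U ↔ (∀ x ∈ U, Q x = 0) ∧ ∀ x ∈ U, ∀ y ∈ U, polar Q x y = 0 := Iff.rfl

theorem mem_perp_quadPol {U : Submodule F V} {y : V} :
    y ∈ (quadPol Q).perp U ↔ ∀ x ∈ U, polar Q y x = 0 := Iff.rfl

/-- it suffices to check the vectors -/
theorem ti_of_sing {U : Submodule F V} (h : ∀ x ∈ U, Q x = 0) : (quadPol Q).TI U := by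
  refine ⟨h, fun x hx y hy => ?_⟩
  show Q (x + y) - Q x - Q y = 0
  rw [h _ (U.add_mem hx hy), h x hx, h y hy, sub_zero, sub_zero]

end Pol

section Om

variable {F : Type*} [Field F] {ι : Type} [Fintype ι] [DecidableEq ι] (Q : QuadraticForm F (ι → F))

/-- the action of `Omega F Q` on the space -/
noncomputable def omRho : Cfsg.Omega F ⇑Q →* ((ι → F) ≃ₗ[F] (ι → F)) :=
  (isometryHom Q).comp (Cfsg.Omega F ⇑Q).subtype

theorem omRho_apply (g : Cfsg.Omega F ⇑Q) (v : ι → F) :
    omRho Q g v = ((g.1 : Matrix.GeneralLinearGroup ι F) : Matrix ι ι F).mulVec v := rfl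

theorem omRho_range : (omRho Q).range = ⁅O Q, O Q⁆ := by
  rw [omRho, MonoidHom.range_comp, Subgroup.range_subtype]
  exact map_Omega Q

theorem omRho_injective : Function.Injective (omRho Q) :=
  (isometryHom_injective Q).comp (Subgroup.subtype_injective _)

variable {Q}

theorem omRho_range_E (hG : Good Q) : (omRho Q).range = E Q := by
  rw [omRho_range, hG.commutator_eq_E]

theorem omRho_mem_E (hG : Good Q) (g : Cfsg.Omega F ⇑Q) : omRho Q g ∈ E Q := by
  rw [← omRho_range_E hG]
  exact ⟨g, rfl⟩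

/-- the elements of `E Q` come from `Omega F Q` -/
theorem exists_om (hG : Good Q) {g : (ι → F) ≃ₗ[F] (ι → F)} (hg : g ∈ E Q) :
    ∃ g' : Cfsg.Omega F ⇑Q, omRho Q g' = g := by
  rw [← omRho_range_E hG] at hg
  exact hg

theorem om_acts (hG : Good Q) : Acts (quadPol Q) (omRho Q) where
  sing g v hv := by
    have h1 : Q (omRho Q g v) = Q v := mem_O.1 (E_le_O (omRho_mem_E hG g)) v
    show Q (omRho Q g v) = 0
    rw [h1]
    exact hv
  orth g x y h := by
    have h1 : polar Q (omRho Q g x) (omRho Q g y) = polar Q x y :=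
      polar_map (E_le_O (omRho_mem_E hG g)) x y
    show polar Q (omRho Q g x) (omRho Q g y) = 0
    rw [h1]
    exact h

/-- a scalar map fixes every subspace -/
theorem map_eq_of_scalar {V : Type*} [AddCommGroup V] [Module F V] (g : V ≃ₗ[F] V) {c : F}
    (h : ∀ v, g v = c • v) (U : Submodule F V) : U.map (g : V →ₗ[F] V) = U := by
  by_cases hc : c = 0
  · have h0 : ∀ v : V, v = 0 := by
      intro v
      apply g.injective
      rw [h v, hc, zero_smul, map_zero]
    ext v
    rw [h0 v]
    exact ⟨fun _ => U.zero_mem, fun _ => Submodule.zero_mem _⟩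
  ext v
  constructor
  · rintro ⟨x, hx, rfl⟩
    show g x ∈ U
    rw [h x]
    exact U.smul_mem _ hx
  · intro hv
    refine ⟨c⁻¹ • v, U.smul_mem _ hv, ?_⟩
    show g (c⁻¹ • v) = v
    rw [h, smul_smul, mul_inv_cancel₀ hc, one_smul]

/-- central elements of `Omega F Q` are scalars -/
theorem scalar_of_center (hG : Good Q) {z : Cfsg.Omega F ⇑Q} (hz : z ∈ Subgroup.center (Cfsg.Omega F ⇑Q)) :
    ∃ c : F, ∀ v, omRho Q z v = c • v := by
  have h1 : (⟨omRho Q z, omRho_mem_E hG z⟩ : ↥(E Q)) ∈ Subgroup.center ↥(E Q) := by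
    rw [Subgroup.mem_center_iff]
    rintro ⟨g, hg⟩
    obtain ⟨g', rfl⟩ := exists_om hG hg
    apply Subtype.ext
    show omRho Q g' * omRho Q z = omRho Q z * omRho Q g'
    rw [← map_mul, ← map_mul, Subgroup.mem_center_iff.1 hz]
  obtain ⟨c, hc⟩ := Cfsg.Agent.ClassicalGeometry.OrthAut1.center_scalar hG h1
  exact ⟨c, hc⟩

/-- **(O1)** the model of `POmega F Q` -/
theorem om_model (hG : Good Q) :
    Model (quadPol Q) (omRho Q) (QuotientGroup.mk' (Subgroup.center (Cfsg.Omega F ⇑Q))) where
  toActs := om_acts hG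
  surj := QuotientGroup.mk'_surjective _
  ker g hg U := by
    have h1 : g ∈ Subgroup.center (Cfsg.Omega F ⇑Q) := by
      rw [QuotientGroup.mk'_apply, QuotientGroup.eq_one_iff] at hg
      exact hg
    obtain ⟨c, hc⟩ := scalar_of_center hG h1
    exact map_eq_of_scalar _ hc U

end Om

end Cfsg.Agent.H410.BR
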