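import Cfsg.Agent.H410.BR.OmCard

/-!
# Witt's theorem for pairs: the isometry group and `Omega`, numerical types

* `iso_acts`, `iso_pair` : the full isometry group, pairs of totally singular subspaces (all forms, all dimensions);
* `om_pair` : `Omega F Q`, for `Typ Q w ε`, `ε ≠ 0` (odd, minus type) or, in plus type (`ε = 0`), under
  `dim U + dim (U' ⊓ U^⊥) < w + dim (U ⊓ U')` (e.g. `dim U + dim U' < w`);
* `om_trans` : transitivity on the totally singular subspaces of dimension `k` (plus type: `k < w`);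
* `dim_symm` : `dim (U ⊓ U'^⊥) + dim U' = dim (U' ⊓ U^⊥) + dim U`.
-/

set_option autoImplicit false
set_option linter.unusedSectionVars false

namespace Cfsg.Agent.H410.BR

open Module QuadraticMap Cfsg Cfsg.Agent.H2.Pol Cfsg.Agent.H674.BR
open Cfsg.Agent.LieClassical Cfsg.Agent.LieClassical.OrthCore Cfsg.Agent.LieClassical.OrthForms
  Cfsg.Agent.LieClassical.OrthTrans Cfsg.Agent.LieClassical.OrthFinite

section General

variable {F V : Type*} [Field F] [AddCommGroup V] [Module F V] [FiniteDimensional F V] {Q : QuadraticForm F V}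

theorem dim_symm {U U' : Submodule F V} (hU : (quadPol Q).TI U) (hU' : (quadPol Q).TI U') :
    finrank F ↥(U ⊓ (quadPol Q).perp U') + finrank F U' = finrank F ↥(U' ⊓ (quadPol Q).perp U) + finrank F U := by
  obtain ⟨a, b, c, s, -, e1, e2, e3, e4, e5⟩ := exists_nf (polarBilin Q) 1 polarBilin_symm U U' hU.2 hU'.2
  rw [perp_eq_pp, perp_eq_pp]
  omega

/-- the existence of a nonsingular vector for a numerical type -/
theorem Typ.exists_nonsing [Finite F] {w ε : ℕ} (h : Typ Q w ε) {U U' : Submodule F V} (hU : (quadPol Q).TI U)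
    (hU' : (quadPol Q).TI U') (hd : ε ≠ 0 ∨ finrank F U + finrank F ↥(U' ⊓ (quadPol Q).perp U) <
      w + finrank F ↥(U ⊓ U')) : ∃ v, Q v ≠ 0 ∧ (∀ u ∈ U, polar Q v u = 0) ∧ ∀ u ∈ U', polar Q v u = 0 := by
  have hw : ∀ T : Submodule F V, (quadPol Q).TI T → finrank F T ≤ w := fun T hT => h.index hT
  have hdim := h.dim
  by_cases hε : ε = 0
  · have h1 : finrank F U + finrank F ↥(U' ⊓ (quadPol Q).perp U) < w + finrank F ↥(U ⊓ U') := by
      rcases hd with h2 | h2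
      · exact absurd hε h2
      · exact h2
    exact BR.exists_nonsing h.nondeg hw hU hU' (by omega)
  · exact exists_nonsing_of_lt h.nondeg hw (by omega) hU hU'

end General

section Om

variable {F : Type*} [Field F] {ι : Type} [Fintype ι] [DecidableEq ι] {Q : QuadraticForm F (ι → F)}

/-- the isometry group acts on the polar structure -/
theorem iso_acts (Q : QuadraticForm F (ι → F)) : Acts (quadPol Q) (isometryHom Q) where
  sing g v hv := by
    have h1 : Q (isometryHom Q g v) = Q v := mem_O.1 (show isometryHom Q g ∈ O Q by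
      rw [← isometryHom_range]
      exact ⟨g, rfl⟩) v
    show Q (isometryHom Q g v) = 0
    rw [h1]
    exact hv
  orth g x y h := by
    have h1 : polar Q (isometryHom Q g x) (isometryHom Q g y) = polar Q x y :=
      polar_map (show isometryHom Q g ∈ O Q by
        rw [← isometryHom_range]
        exact ⟨g, rfl⟩) x y
    show polar Q (isometryHom Q g x) (isometryHom Q g y) = 0
    rw [h1]
    exact h

/-- **Witt's theorem for pairs**: the isometry group -/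
theorem iso_pair (hQ : Nondeg Q) {k l : ℕ} (U W : (quadPol Q).X k) (U' W' : (quadPol Q).X l)
    (h1 : finrank F ↥(U.1 ⊓ U'.1) = finrank F ↥(W.1 ⊓ W'.1))
    (h2 : finrank F ↥(U'.1 ⊓ (quadPol Q).perp U.1) = finrank F ↥(W'.1 ⊓ (quadPol Q).perp W.1)) :
    ∃ g : Cfsg.isometryGroup F ⇑Q, (iso_acts Q).act k g U = W ∧ (iso_acts Q).act l g U' = W' := by
  obtain ⟨g, hg, e1, e2⟩ := witt_pair_O hQ U.2.1 U'.2.1 W.2.1 W'.2.1 (U.2.2.trans W.2.2.symm)
    (U'.2.2.trans W'.2.2.symm) h1 h2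
  rw [← isometryHom_range] at hg
  obtain ⟨g, rfl⟩ := hg
  exact ⟨g, Subtype.ext e1, Subtype.ext e2⟩

variable [Finite F] {w ε : ℕ}

theorem Typ.good (h : Typ Q w ε) (hd : 5 ≤ Fintype.card ι) : Good Q :=
  good_of_finite h.nondeg (by rwa [Module.finrank_fintype_fun_eq_card])

/-- **(O2) Witt's theorem for pairs**: the group `Omega F Q` -/
theorem om_pair (h : Typ Q w ε) (hG : Good Q) {k l : ℕ} (U W : (quadPol Q).X k) (U' W' : (quadPol Q).X l)
    (h1 : finrank F ↥(U.1 ⊓ U'.1) = finrank F ↥(W.1 ⊓ W'.1))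
    (h2 : finrank F ↥(U'.1 ⊓ (quadPol Q).perp U.1) = finrank F ↥(W'.1 ⊓ (quadPol Q).perp W.1))
    (hd : ε ≠ 0 ∨ k + finrank F ↥(U'.1 ⊓ (quadPol Q).perp U.1) < w + finrank F ↥(U.1 ⊓ U'.1)) :
    ∃ g : Cfsg.Omega F ⇑Q, (om_acts hG).act k g U = W ∧ (om_acts hG).act l g U' = W' := by
  obtain ⟨g, hg, e1, e2⟩ := witt_pair_E hG U.2.1 U'.2.1 W.2.1 W'.2.1 (U.2.2.trans W.2.2.symm)
    (U'.2.2.trans W'.2.2.symm) h1 h2 (h.exists_nonsing U.2.1 U'.2.1 (by rw [U.2.2]; exact hd))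
  obtain ⟨g, rfl⟩ := exists_om hG hg
  exact ⟨g, Subtype.ext e1, Subtype.ext e2⟩

/-- the form with `k + l < w` -/
theorem om_pair_of_lt (h : Typ Q w ε) (hG : Good Q) {k l : ℕ} (hd : ε ≠ 0 ∨ k + l < w)
    (U W : (quadPol Q).X k) (U' W' : (quadPol Q).X l)
    (h1 : finrank F ↥(U.1 ⊓ U'.1) = finrank F ↥(W.1 ⊓ W'.1))
    (h2 : finrank F ↥(U'.1 ⊓ (quadPol Q).perp U.1) = finrank F ↥(W'.1 ⊓ (quadPol Q).perp W.1)) :
    ∃ g : Cfsg.Omega F ⇑Q, (om_acts hG).act k g U = W ∧ (om_acts hG).act l g U' = W' := by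
  refine om_pair h hG U W U' W' h1 h2 (hd.imp_right fun hlt => ?_)
  have h3 : finrank F ↥(U'.1 ⊓ (quadPol Q).perp U.1) ≤ finrank F U'.1 := Submodule.finrank_mono inf_le_left
  have h4 : finrank F U'.1 = l := U'.2.2
  omega

/-- the orientation `dim (U ⊓ U'^⊥)` -/
theorem om_pair_of_lt' (h : Typ Q w ε) (hG : Good Q) {k l : ℕ} (hd : ε ≠ 0 ∨ k + l < w)
    (U W : (quadPol Q).X k) (U' W' : (quadPol Q).X l)
    (h1 : finrank F ↥(U.1 ⊓ U'.1) = finrank F ↥(W.1 ⊓ W'.1))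
    (h2 : finrank F ↥(U.1 ⊓ (quadPol Q).perp U'.1) = finrank F ↥(W.1 ⊓ (quadPol Q).perp W'.1)) :
    ∃ g : Cfsg.Omega F ⇑Q, (om_acts hG).act k g U = W ∧ (om_acts hG).act l g U' = W' := by
  refine om_pair_of_lt h hG hd U W U' W' h1 ?_
  have e1 := dim_symm (Q := Q) U.2.1 U'.2.1
  have e2 := dim_symm (Q := Q) W.2.1 W'.2.1
  rw [U.2.2, U'.2.2] at e1
  rw [W.2.2, W'.2.2] at e2
  omega

/-- the zero subspace -/
def xbot (Q : QuadraticForm F (ι → F)) : (quadPol Q).X 0 := ⟨⊥, (quadPol Q).TI_bot, finrank_bot F _⟩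

/-- transitivity on the totally singular subspaces of dimension `k` -/
theorem om_trans (h : Typ Q w ε) (hG : Good Q) {k : ℕ} (hd : ε ≠ 0 ∨ k < w) (U W : (quadPol Q).X k) :
    ∃ g : Cfsg.Omega F ⇑Q, (om_acts hG).act k g U = W := by
  obtain ⟨g, hg, -⟩ := om_pair_of_lt h hG (l := 0) hd U W (xbot Q) (xbot Q)
    (by
      show finrank F ↥(U.1 ⊓ (⊥ : Submodule F (ι → F))) = finrank F ↥(W.1 ⊓ (⊥ : Submodule F (ι → F)))
      rw [inf_bot_eq, inf_bot_eq])
    (by
      show finrank F ↥((⊥ : Submodule F (ι → F)) ⊓ (quadPol Q).perp U.1) =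
        finrank F ↥((⊥ : Submodule F (ι → F)) ⊓ (quadPol Q).perp W.1)
      rw [bot_inf_eq, bot_inf_eq])
  exact ⟨g, hg⟩

/-- transitivity on flags of two totally singular subspaces (plus type: `l < w`) -/
theorem om_flag (h : Typ Q w ε) (hG : Good Q) {k l : ℕ} (hd : ε ≠ 0 ∨ l < w) (U W : (quadPol Q).X k)
    (U' W' : (quadPol Q).X l) (hU : U.1 ≤ U'.1) (hW : W.1 ≤ W'.1) :
    ∃ g : Cfsg.Omega F ⇑Q, (om_acts hG).act k g U = W ∧ (om_acts hG).act l g U' = W' := by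
  have e1 : U.1 ⊓ U'.1 = U.1 := inf_of_le_left hU
  have e2 : W.1 ⊓ W'.1 = W.1 := inf_of_le_left hW
  have e3 : U'.1 ⊓ (quadPol Q).perp U.1 = U'.1 :=
    inf_of_le_left fun x hx y hy => U'.2.1.2 x hx y (hU hy)
  have e4 : W'.1 ⊓ (quadPol Q).perp W.1 = W'.1 :=
    inf_of_le_left fun x hx y hy => W'.2.1.2 x hx y (hW hy)
  refine om_pair h hG U W U' W' ?_ ?_ (hd.imp_right fun hlt => ?_)
  · rw [e1, e2, U.2.2, W.2.2]
  · rw [e3, e4, U'.2.2, W'.2.2]
  · rw [e1, e3, U.2.2, U'.2.2]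
    omega

end Om

end Cfsg.Agent.H410.BR
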