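import Mathlib

/-!
# Normal form of a pair of totally isotropic subspaces

For a form `B` with `B x y = ε * B y x` and subspaces `U`, `U'` on which `B` vanishes there is a linearly independent
family `x, y, p, z, q` with `⟨x, y, p⟩ = U`, `⟨x, z, q⟩ = U'`, `B (p i) (q j) = δ i j` and all other products of
members of the family zero (`exists_nf`).  Hence two pairs with the same dimensions of `U`, `U'`, `U ⊓ U'` and
`U' ⊓ U^⊥` have families with the same Gram matrix (`exists_families`).
-/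

set_option autoImplicit false

namespace Cfsg.Agent.H410.BR

open Module Submodule

variable {F V : Type*} [Field F] [AddCommGroup V] [Module F V]

/-- the orthogonal space -/
def pp (B : V →ₗ[F] V →ₗ[F] F) (U : Submodule F V) : Submodule F V where
  carrier := {y | ∀ x ∈ U, B y x = 0}
  add_mem' := by
    intro a b ha hb x hx
    rw [map_add, LinearMap.add_apply, ha x hx, hb x hx, add_zero]
  zero_mem' := fun x _ => by rw [map_zero, LinearMap.zero_apply]
  smul_mem' := by
    intro c a ha x hx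
    rw [map_smul, LinearMap.smul_apply, ha x hx, smul_zero]

theorem mem_pp {B : V →ₗ[F] V →ₗ[F] F} {U : Submodule F V} {y : V} : y ∈ pp B U ↔ ∀ x ∈ U, B y x = 0 := Iff.rfl

/-- a family spanning a subspace -/
theorem exists_fam [FiniteDimensional F V] (S : Submodule F V) :
    ∃ x : Fin (finrank F S) → V, LinearIndependent F x ∧ span F (Set.range x) = S := by
  let b := finBasis F S
  refine ⟨fun i => (b i : V), b.linearIndependent.map' S.subtype (Submodule.ker_subtype S), ?_⟩
  have h1 : Set.range (fun i => (b i : V)) = S.subtype '' Set.range b := by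
    rw [← Set.range_comp]
    rfl
  rw [h1, Submodule.span_image, b.span_eq, Submodule.map_top, Submodule.range_subtype]

/-- dual vectors -/
theorem exists_dual_fam (B : V →ₗ[F] V →ₗ[F] F) {s : ℕ} (p : Fin s → V) (hp : LinearIndependent F p)
    (U : Submodule F V) (h : Disjoint (span F (Set.range p)) (pp B U)) :
    ∃ q : Fin s → V, (∀ j, q j ∈ U) ∧ ∀ i j, B (p i) (q j) = if i = j then 1 else 0 := by
  let T : U →ₗ[F] (Fin s → F) := LinearMap.pi fun i => (B (p i)).comp U.subtype
  have hT : LinearMap.range T = ⊤ := by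
    by_contra hne
    obtain ⟨f, hf, hle⟩ := Submodule.exists_le_ker_of_lt_top (LinearMap.range T) (lt_top_iff_ne_top.2 hne)
    apply hf
    have h1 : ∀ w : Fin s → F, f w = ∑ i, w i * f (Pi.single i 1) := by
      intro w
      rw [LinearMap.pi_apply_eq_sum_univ f w]
      refine Finset.sum_congr rfl fun i _ => ?_
      rw [smul_eq_mul]
      congr 2
      funext j
      rw [Pi.single_apply]
      simp only [eq_comm]
    have h2 : ∑ i, f (Pi.single i 1) • p i ∈ pp B U := by
      intro u hu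
      have h3 : f (T ⟨u, hu⟩) = 0 := hle ⟨_, rfl⟩
      rw [h1] at h3
      rw [map_sum, LinearMap.sum_apply, ← h3]
      refine Finset.sum_congr rfl fun i _ => ?_
      rw [map_smul, LinearMap.smul_apply, smul_eq_mul, mul_comm]
      rfl
    have h3 : ∑ i, f (Pi.single i 1) • p i ∈ span F (Set.range p) :=
      Submodule.sum_mem _ fun i _ => Submodule.smul_mem _ _ (Submodule.subset_span ⟨i, rfl⟩)
    have h4 := (Submodule.disjoint_def.1 h) _ h3 h2
    have h5 := Fintype.linearIndependent_iff.1 hp _ h4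
    ext i
    simp only [LinearMap.comp_apply, LinearMap.zero_apply, LinearMap.coe_single]
    have := h5 i
    rw [this]
  have h1 : ∀ j, ∃ u : U, T u = Pi.single j 1 := fun j => by
    have : (Pi.single j 1 : Fin s → F) ∈ LinearMap.range T := by
      rw [hT]
      exact Submodule.mem_top
    exact this
  choose q hq using h1
  refine ⟨fun j => q j, fun j => (q j).2, fun i j => ?_⟩
  have h2 := congrFun (hq j) i
  rw [Pi.single_apply] at h2
  exact h2

/-- the family of a pair of totally isotropic subspaces -/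
structure NF (B : V →ₗ[F] V →ₗ[F] F) (U U' : Submodule F V) (a b c s : ℕ) where
  /-- basis of the intersection -/
  x : Fin a → V
  /-- basis of a complement of `U ⊓ U'` in `U ⊓ U'^⊥` -/
  y : Fin b → V
  /-- basis of a complement of `U ⊓ U'` in `U' ⊓ U^⊥` -/
  z : Fin c → V
  /-- the rest of the basis of `U` -/
  p : Fin s → V
  /-- the rest of the basis of `U'` -/
  q : Fin s → V
  li : LinearIndependent F (Sum.elim (Sum.elim (Sum.elim x y) p) (Sum.elim z q))
  span_left : span F (Set.range (Sum.elim (Sum.elim x y) p)) = U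
  span_right : span F (Set.range (Sum.elim x (Sum.elim z q))) = U'
  hx : ∀ i, x i ∈ U ⊓ U'
  hy : ∀ i, y i ∈ U ⊓ pp B U'
  hz : ∀ i, z i ∈ U' ⊓ pp B U
  hp : ∀ i, p i ∈ U
  hq : ∀ i, q i ∈ U'
  hpq : ∀ i j, B (p i) (q j) = if i = j then 1 else 0

theorem finrank_of_fam {κ : Type*} [Fintype κ] {v : κ → V} (hv : LinearIndependent F v) {S : Submodule F V}
    (hS : span F (Set.range v) = S) : Fintype.card κ = finrank F S := by
  rw [← hS, finrank_span_eq_card hv]

theorem exists_nf [FiniteDimensional F V] (B : V →ₗ[F] V →ₗ[F] F) (ε : F) (hB : ∀ x y, B x y = ε * B y x)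
    (U U' : Submodule F V) (hU : ∀ x ∈ U, ∀ y ∈ U, B x y = 0) (hU' : ∀ x ∈ U', ∀ y ∈ U', B x y = 0) :
    ∃ a b c s : ℕ, Nonempty (NF B U U' a b c s) ∧ a = finrank F ↥(U ⊓ U') ∧ a + b + s = finrank F U ∧
      a + c + s = finrank F U' ∧ a + c = finrank F ↥(U' ⊓ pp B U) ∧ a + b = finrank F ↥(U ⊓ pp B U') := by
  have hI1 : U ⊓ U' ≤ U ⊓ pp B U' := fun u hu => ⟨hu.1, fun w hw => hU' u hu.2 w hw⟩
  have hI2 : U ⊓ U' ≤ U' ⊓ pp B U := fun u hu => ⟨hu.2, fun w hw => hU u hu.1 w hw⟩
  obtain ⟨J, hJ⟩ := Submodule.exists_isCompl (U ⊓ U')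
  obtain ⟨K, hK⟩ := Submodule.exists_isCompl (U ⊓ pp B U')
  obtain ⟨x, hx, hxs⟩ := exists_fam (U ⊓ U')
  obtain ⟨y, hy, hys⟩ := exists_fam ((U ⊓ pp B U') ⊓ J)
  obtain ⟨z, hz, hzs⟩ := exists_fam ((U' ⊓ pp B U) ⊓ J)
  obtain ⟨p, hp, hps⟩ := exists_fam (U ⊓ K)
  have hspan : ∀ {κ : Type} {v : κ → V} {S : Submodule F V}, span F (Set.range v) = S → ∀ i, v i ∈ S := by
    intro κ v S h i
    rw [← h]
    exact Submodule.subset_span ⟨i, rfl⟩
  have hdp : Disjoint (span F (Set.range p)) (pp B U') := by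
    rw [hps, Submodule.disjoint_def]
    intro w hw hw'
    exact (Submodule.disjoint_def.1 hK.disjoint) w ⟨hw.1, hw'⟩ hw.2
  obtain ⟨q, hq, hpq⟩ := exists_dual_fam B p hp U' hdp
  -- spans
  have hxy : LinearIndependent F (Sum.elim x y) := by
    refine hx.sum_type hy ?_
    rw [hxs, hys]
    exact hJ.disjoint.mono_right inf_le_right
  have hxys : span F (Set.range (Sum.elim x y)) = U ⊓ pp B U' := by
    rw [Set.Sum.elim_range, Submodule.span_union, hxs, hys, inf_comm (U ⊓ pp B U') J, ← sup_inf_assoc_of_le J hI1,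
      hJ.sup_eq_top, top_inf_eq]
  have hxyp : LinearIndependent F (Sum.elim (Sum.elim x y) p) := by
    refine hxy.sum_type hp ?_
    rw [hxys, hps]
    exact hK.disjoint.mono_right inf_le_right
  have hxyps : span F (Set.range (Sum.elim (Sum.elim x y) p)) = U := by
    rw [Set.Sum.elim_range, Submodule.span_union, hxys, hps, inf_comm U K, ← sup_inf_assoc_of_le K inf_le_left,
      hK.sup_eq_top, top_inf_eq]
  have hxz : LinearIndependent F (Sum.elim x z) := by
    refine hx.sum_type hz ?_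
    rw [hxs, hzs]
    exact hJ.disjoint.mono_right inf_le_right
  have hxzs : span F (Set.range (Sum.elim x z)) = U' ⊓ pp B U := by
    rw [Set.Sum.elim_range, Submodule.span_union, hxs, hzs, inf_comm (U' ⊓ pp B U) J, ← sup_inf_assoc_of_le J hI2,
      hJ.sup_eq_top, top_inf_eq]
  -- combinations of the `q`
  have hcomb : ∀ (e : Fin (finrank F ↥(U ⊓ K)) → F) (i), B (p i) (∑ j, e j • q j) = e i := by
    intro e i
    rw [map_sum, Finset.sum_eq_single i]
    · rw [map_smul, hpq, if_pos rfl, smul_eq_mul, mul_one]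
    · intro j _ hj
      rw [map_smul, hpq, if_neg (Ne.symm hj), smul_zero]
    · intro hi
      exact absurd (Finset.mem_univ i) hi
  have hqli : LinearIndependent F q := by
    rw [Fintype.linearIndependent_iff]
    intro e he i
    have := hcomb e i
    rw [he, map_zero] at this
    exact this.symm
  have hRq : Disjoint (U' ⊓ pp B U) (span F (Set.range q)) := by
    rw [Submodule.disjoint_def]
    intro w hw hw'
    obtain ⟨e, rfl⟩ := (Submodule.mem_span_range_iff_exists_fun F).1 hw'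
    refine Finset.sum_eq_zero fun i _ => ?_
    have h1 := hcomb e i
    have h2 : B (∑ j, e j • q j) (p i) = 0 := hw.2 _ ((hspan hps i).1)
    rw [hB, h2, mul_zero] at h1
    rw [← h1, zero_smul]
  have hqU : span F (Set.range q) ≤ U' := by
    rw [Submodule.span_le]
    rintro _ ⟨j, rfl⟩
    exact hq j
  have hZ2 : (U' ⊓ pp B U) ⊓ J ≤ U' ⊓ pp B U := inf_le_left
  have hzq : LinearIndependent F (Sum.elim z q) := by
    refine hz.sum_type hqli ?_
    rw [hzs]
    exact hRq.mono_left hZ2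
  have hzqs : span F (Set.range (Sum.elim z q)) = ((U' ⊓ pp B U) ⊓ J) ⊔ span F (Set.range q) := by
    rw [Set.Sum.elim_range, Submodule.span_union, hzs]
  have hzqU : span F (Set.range (Sum.elim z q)) ≤ U' := by
    rw [hzqs]
    exact sup_le (inf_le_left.trans inf_le_left) hqU
  have hdis : Disjoint U (span F (Set.range (Sum.elim z q))) := by
    rw [Submodule.disjoint_def]
    intro w hw hw'
    have hwI : w ∈ U ⊓ U' := ⟨hw, hzqU hw'⟩
    rw [hzqs] at hw'
    obtain ⟨ζ, hζ, θ, hθ, rfl⟩ := Submodule.mem_sup.1 hw'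
    have h1 : θ = 0 := by
      refine (Submodule.disjoint_def.1 hRq) θ ?_ hθ
      have h2 : θ = (ζ + θ) - ζ := by abel
      rw [h2]
      exact Submodule.sub_mem _ (hI2 hwI) (hZ2 hζ)
    rw [h1, add_zero] at hwI ⊢
    exact (Submodule.disjoint_def.1 hJ.disjoint) ζ hwI hζ.2
  have hfull : LinearIndependent F (Sum.elim (Sum.elim (Sum.elim x y) p) (Sum.elim z q)) := by
    refine hxyp.sum_type hzq ?_
    rw [hxyps]
    exact hdis
  have hxzqs : span F (Set.range (Sum.elim x (Sum.elim z q))) = U' := by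
    rw [Set.Sum.elim_range, Submodule.span_union, hxs, hzqs]
    apply le_antisymm
    · exact sup_le inf_le_right (sup_le (inf_le_left.trans inf_le_left) hqU)
    · intro u hu
      have h1 : u - ∑ j, B (p j) u • q j ∈ U' ⊓ pp B U := by
        refine ⟨Submodule.sub_mem _ hu (Submodule.sum_mem _ fun j _ => Submodule.smul_mem _ _ (hq j)), ?_⟩
        intro w hw
        rw [← hxyps, Set.Sum.elim_range, Submodule.span_union, hxys] at hw
        obtain ⟨r, hr, t, ht, rfl⟩ := Submodule.mem_sup.1 hw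
        have h2 : B (u - ∑ j, B (p j) u • q j) r = 0 := by
          rw [hB, hr.2 _ (Submodule.sub_mem _ hu (Submodule.sum_mem _ fun j _ => Submodule.smul_mem _ _ (hq j))),
            mul_zero]
        have h3 : B (u - ∑ j, B (p j) u • q j) t = 0 := by
          obtain ⟨e, rfl⟩ := (Submodule.mem_span_range_iff_exists_fun F).1 ht
          rw [map_sum]
          refine Finset.sum_eq_zero fun i _ => ?_
          rw [map_smul, hB, map_sub, hcomb, sub_self, mul_zero, smul_zero]
        rw [map_add, h2, h3, add_zero]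
      have h2 : U' ⊓ pp B U ≤ (U ⊓ U') ⊔ (((U' ⊓ pp B U) ⊓ J) ⊔ span F (Set.range q)) := by
        rw [← sup_assoc]
        refine le_trans ?_ le_sup_left
        rw [← hxs, ← hzs, ← Submodule.span_union, ← Set.Sum.elim_range, hxzs]
      have h3 : u = (u - ∑ j, B (p j) u • q j) + ∑ j, B (p j) u • q j := by abel
      rw [h3]
      refine Submodule.add_mem _ (h2 h1) ?_
      refine Submodule.sum_mem _ fun j _ => Submodule.smul_mem _ _ ?_
      exact (le_sup_of_le_right le_sup_right :
        span F (Set.range q) ≤ (U ⊓ U') ⊔ (((U' ⊓ pp B U) ⊓ J) ⊔ span F (Set.range q)))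
        (Submodule.subset_span ⟨j, rfl⟩)
  refine ⟨_, _, _, _, ⟨⟨x, y, z, p, q, hfull, hxyps, hxzqs, hspan hxs, fun i => (hspan hys i).1,
    fun i => (hspan hzs i).1, fun i => (hspan hps i).1, hq, hpq⟩⟩, rfl, ?_, ?_, ?_, ?_⟩
  · have := finrank_of_fam hxyp hxyps
    rw [Fintype.card_sum, Fintype.card_sum, Fintype.card_fin, Fintype.card_fin, Fintype.card_fin] at this
    exact this
  · have hli : LinearIndependent F (Sum.elim x (Sum.elim z q)) := by
      refine hx.sum_type hzq ?_
      rw [hxs]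
      exact hdis.mono_left inf_le_left
    have := finrank_of_fam hli hxzqs
    rw [Fintype.card_sum, Fintype.card_sum, Fintype.card_fin, Fintype.card_fin, Fintype.card_fin] at this
    omega
  · have := finrank_of_fam hxz hxzs
    rw [Fintype.card_sum, Fintype.card_fin, Fintype.card_fin] at this
    exact this
  · have := finrank_of_fam hxy hxys
    rw [Fintype.card_sum, Fintype.card_fin, Fintype.card_fin] at this
    exact this

/-- the index type of the family -/
abbrev Ix (a b c s : ℕ) : Type := ((Fin a ⊕ Fin b) ⊕ Fin s) ⊕ (Fin c ⊕ Fin s)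

/-- the family of a normal form -/
def NF.fam {B : V →ₗ[F] V →ₗ[F] F} {U U' : Submodule F V} {a b c s : ℕ} (n : NF B U U' a b c s) : Ix a b c s → V :=
  Sum.elim (Sum.elim (Sum.elim n.x n.y) n.p) (Sum.elim n.z n.q)

/-- the Gram matrix of the normal form -/
def gram (ε : F) (a b c s : ℕ) : Ix a b c s → Ix a b c s → F
  | .inl (.inr i), .inr (.inr j) => if i = j then 1 else 0
  | .inr (.inr j), .inl (.inr i) => ε * if i = j then 1 else 0
  | _, _ => 0

/-- the members of `U` -/
def ixL (a b c s : ℕ) : Set (Ix a b c s) := Set.range Sum.inl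

/-- the members of `U'` -/
def ixR (a b c s : ℕ) : Set (Ix a b c s) :=
  Set.range (Sum.elim (fun i => Sum.inl (Sum.inl (Sum.inl i))) (fun i => Sum.inr i) : Fin a ⊕ (Fin c ⊕ Fin s) → _)

theorem NF.gram_eq {B : V →ₗ[F] V →ₗ[F] F} {ε : F} (hB : ∀ x y, B x y = ε * B y x) {U U' : Submodule F V}
    (hU : ∀ x ∈ U, ∀ y ∈ U, B x y = 0) (hU' : ∀ x ∈ U', ∀ y ∈ U', B x y = 0) {a b c s : ℕ}
    (n : NF B U U' a b c s) (i j : Ix a b c s) : B (n.fam i) (n.fam j) = gram ε a b c s i j := by
  have hs : ∀ {x y : V}, B y x = 0 → B x y = 0 := by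
    intro x y h
    rw [hB, h, mul_zero]
  rcases i with ((i | i) | i) | (i | i) <;> rcases j with ((j | j) | j) | (j | j)
  · exact hU _ (n.hx i).1 _ (n.hx j).1
  · exact hU _ (n.hx i).1 _ (n.hy j).1
  · exact hU _ (n.hx i).1 _ (n.hp j)
  · exact hU' _ (n.hx i).2 _ (n.hz j).1
  · exact hU' _ (n.hx i).2 _ (n.hq j)
  · exact hU _ (n.hy i).1 _ (n.hx j).1
  · exact hU _ (n.hy i).1 _ (n.hy j).1
  · exact hU _ (n.hy i).1 _ (n.hp j)
  · exact (n.hy i).2 _ (n.hz j).1
  · exact (n.hy i).2 _ (n.hq j)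
  · exact hU _ (n.hp i) _ (n.hx j).1
  · exact hU _ (n.hp i) _ (n.hy j).1
  · exact hU _ (n.hp i) _ (n.hp j)
  · exact hs ((n.hz j).2 _ (n.hp i))
  · exact n.hpq i j
  · exact hU' _ (n.hz i).1 _ (n.hx j).2
  · exact hs ((n.hy j).2 _ (n.hz i).1)
  · exact (n.hz i).2 _ (n.hp j)
  · exact hU' _ (n.hz i).1 _ (n.hz j).1
  · exact hU' _ (n.hz i).1 _ (n.hq j)
  · exact hU' _ (n.hq i) _ (n.hx j).2
  · exact hs ((n.hy j).2 _ (n.hq i))
  · show B (n.q i) (n.p j) = ε * if j = i then 1 else 0
    rw [hB, n.hpq]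
  · exact hU' _ (n.hq i) _ (n.hz j).1
  · exact hU' _ (n.hq i) _ (n.hq j)

theorem NF.span_ixL {B : V →ₗ[F] V →ₗ[F] F} {U U' : Submodule F V} {a b c s : ℕ}
    (n : NF B U U' a b c s) : span F (n.fam '' ixL a b c s) = U := by
  rw [ixL, ← Set.range_comp]
  exact n.span_left

theorem NF.span_ixR {B : V →ₗ[F] V →ₗ[F] F} {U U' : Submodule F V} {a b c s : ℕ}
    (n : NF B U U' a b c s) : span F (n.fam '' ixR a b c s) = U' := by
  rw [ixR, ← Set.range_comp]
  have h1 : (n.fam ∘ (Sum.elim (fun i => Sum.inl (Sum.inl (Sum.inl i))) (fun i => Sum.inr i) :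
      Fin a ⊕ (Fin c ⊕ Fin s) → Ix a b c s)) = Sum.elim n.x (Sum.elim n.z n.q) := by
    funext i
    rcases i with i | i | i <;> rfl
  rw [h1]
  exact n.span_right

theorem NF.mem {B : V →ₗ[F] V →ₗ[F] F} {U U' : Submodule F V} {a b c s : ℕ}
    (n : NF B U U' a b c s) (i : Ix a b c s) : n.fam i ∈ U ∨ n.fam i ∈ U' := by
  rcases i with ((i | i) | i) | (i | i)
  · exact Or.inl (n.hx i).1
  · exact Or.inl (n.hy i).1
  · exact Or.inl (n.hp i)
  · exact Or.inr (n.hz i).1
  · exact Or.inr (n.hq i)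

/-- **Two pairs with the same invariants have families with the same Gram matrix.** -/
theorem exists_families [FiniteDimensional F V] (B : V →ₗ[F] V →ₗ[F] F) (ε : F) (hB : ∀ x y, B x y = ε * B y x)
    (U U' W W' : Submodule F V) (hU : ∀ x ∈ U, ∀ y ∈ U, B x y = 0) (hU' : ∀ x ∈ U', ∀ y ∈ U', B x y = 0)
    (hW : ∀ x ∈ W, ∀ y ∈ W, B x y = 0) (hW' : ∀ x ∈ W', ∀ y ∈ W', B x y = 0)
    (h1 : finrank F U = finrank F W) (h2 : finrank F U' = finrank F W')
    (h3 : finrank F ↥(U ⊓ U') = finrank F ↥(W ⊓ W')) (h4 : finrank F ↥(U' ⊓ pp B U) = finrank F ↥(W' ⊓ pp B W)) :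
    ∃ (k : ℕ) (v w : Fin k → V) (L R : Set (Fin k)), LinearIndependent F v ∧ LinearIndependent F w ∧
      (∀ i j, B (v i) (v j) = B (w i) (w j)) ∧ span F (v '' L) = U ∧ span F (v '' R) = U' ∧
      span F (w '' L) = W ∧ span F (w '' R) = W' ∧ (∀ i, v i ∈ U ∨ v i ∈ U') ∧ ∀ i, w i ∈ W ∨ w i ∈ W' := by
  obtain ⟨a, b, c, s, ⟨n⟩, e1, e2, e3, e4, -⟩ := exists_nf B ε hB U U' hU hU'
  obtain ⟨a', b', c', s', ⟨n'⟩, f1, f2, f3, f4, -⟩ := exists_nf B ε hB W W' hW hW'
  obtain rfl : a = a' := by omega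
  obtain rfl : c = c' := by omega
  obtain rfl : s = s' := by omega
  obtain rfl : b = b' := by omega
  let e : Ix a b c s ≃ Fin (Fintype.card (Ix a b c s)) := Fintype.equivFin _
  refine ⟨_, n.fam ∘ e.symm, n'.fam ∘ e.symm, e '' ixL a b c s, e '' ixR a b c s,
    n.li.comp _ e.symm.injective, n'.li.comp _ e.symm.injective, fun i j => ?_, ?_, ?_, ?_, ?_,
    fun i => n.mem _, fun i => n'.mem _⟩
  · show B (n.fam _) (n.fam _) = B (n'.fam _) (n'.fam _)
    rw [n.gram_eq hB hU hU', n'.gram_eq hB hW hW']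
  · rw [← Set.image_comp, Function.comp_assoc, Equiv.symm_comp_self, Function.comp_id, n.span_ixL]
  · rw [← Set.image_comp, Function.comp_assoc, Equiv.symm_comp_self, Function.comp_id, n.span_ixR]
  · rw [← Set.image_comp, Function.comp_assoc, Equiv.symm_comp_self, Function.comp_id, n'.span_ixL]
  · rw [← Set.image_comp, Function.comp_assoc, Equiv.symm_comp_self, Function.comp_id, n'.span_ixR]

end Cfsg.Agent.H410.BR
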